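import Groth.Agent.Misc15.KoszulTopLim
import Groth.Agent.CAlgH.KoszulH1
import Mathlib.RingTheory.Nullstellensatz
import Mathlib.RingTheory.MvPolynomial.Ideal
import Mathlib.Algebra.BigOperators.Intervals

/-!
# The powers of a maximal ideal of the polynomial ring in two variables
-/

set_option autoImplicit false

universe u

open MvPolynomial Groth.Agent.CAlgH.KoszulRegular

namespace Groth.Agent.BlowUpPlane

variable (k : Type u) [Field k]

/-- The exponents of degree `< b`. -/
noncomputable def expo (b : ℕ) (p : Σ i : Fin b, Fin (i.1 + 1)) : Fin 2 →₀ ℕ :=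
  Finsupp.single 0 p.2.1 + Finsupp.single 1 (p.1.1 - p.2.1)

theorem expo_injective (b : ℕ) : Function.Injective (expo b) := by
  rintro ⟨i, j⟩ ⟨i', j'⟩ h
  have h0 := congrArg (fun e => e 0) h
  have h1 := congrArg (fun e => e 1) h
  simp [expo] at h0 h1
  have := j.2
  have := j'.2
  obtain rfl : i = i' := Fin.ext (by omega)
  obtain rfl : j = j' := Fin.ext h0
  rfl

/-- The quotient by the `b`-th power of the ideal of the variables has dimension `b(b+1)/2`. -/
theorem finrank_quot_pow (b : ℕ) :
    Module.finrank k (MvPolynomial (Fin 2) k ⧸ (idealOfVars (Fin 2) k) ^ b) = (b + 1).choose 2 := by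
  classical
  let L : MvPolynomial (Fin 2) k →ₗ[k] ((Σ i : Fin b, Fin (i.1 + 1)) → k) :=
    LinearMap.pi fun p => lcoeff k (expo b p)
  have hker : ∀ q : MvPolynomial (Fin 2) k, L q = 0 ↔ q ∈ (idealOfVars (Fin 2) k) ^ b := by
    intro q
    rw [mem_pow_idealOfVars_iff']
    constructor
    · intro h e he
      have hd : e.degree = e 0 + e 1 := by rw [Finsupp.degree_eq_sum, Fin.sum_univ_two]
      have hp := congrFun h ⟨⟨e 0 + e 1, by omega⟩, ⟨e 0, by simp⟩⟩
      have he' : expo b ⟨⟨e 0 + e 1, by omega⟩, ⟨e 0, by simp⟩⟩ = e := by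
        ext t; fin_cases t <;> simp [expo]
      simpa [L, lcoeff, he'] using hp
    · intro h
      funext p
      refine h _ ?_
      have := p.1.2
      have := p.2.2
      rw [Finsupp.degree_eq_sum, Fin.sum_univ_two]
      simp [expo]
      omega
  have hsurj : Function.Surjective L := fun c =>
    ⟨∑ p, monomial (expo b p) (c p), funext fun p => by
      simp [L, lcoeff, coeff_sum, coeff_monomial, (expo_injective b).eq_iff]⟩
  have e : (MvPolynomial (Fin 2) k ⧸ (idealOfVars (Fin 2) k) ^ b) ≃ₗ[k] ((Σ i : Fin b, Fin (i.1 + 1)) → k) :=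
    (Submodule.Quotient.restrictScalarsEquiv k _).symm.trans
      ((Submodule.quotEquivOfEq _ _ (Submodule.ext fun q => (hker q).symm)).trans
        (LinearMap.quotKerEquivOfSurjective L hsurj))
  rw [e.finrank_eq, Module.finrank_pi, Fintype.card_sigma]
  simp only [Fintype.card_fin]
  rw [Fin.sum_univ_eq_sum_range (fun i => i + 1) b]
  have hsum : ∀ c : ℕ, ∑ i ∈ Finset.range c, (i + 1) = (c + 1).choose 2 := fun c => by
    induction c with
    | zero => rfl
    | succ c ih =>
      rw [Finset.sum_range_succ, ih, Nat.choose_succ_succ' (c + 1) 1, Nat.choose_one_right, add_comm]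
  exact hsum b

/-- The variables form a Koszul regular sequence. -/
theorem kreg_vars : KReg (X : Fin 2 → MvPolynomial (Fin 2) k) := by
  refine Groth.Agent.CAlgH.KoszulH1.kreg_of_isWeaklyRegular ?_
  have h := Misc15.Koszul.isWeaklyRegular_vars_pow k 2 1
  simpa [Function.comp_def] using h

/-- Translation by a point. -/
noncomputable def shift (α : Fin 2 → k) : MvPolynomial (Fin 2) k ≃ₐ[k] MvPolynomial (Fin 2) k :=
  AlgEquiv.ofAlgHom (aeval fun i => X i - C (α i)) (aeval fun i => X i + C (α i))
    (algHom_ext fun i => by simp) (algHom_ext fun i => by simp)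

theorem idealOfVars_eq_vanishingIdeal :
    idealOfVars (Fin 2) k = vanishingIdeal k {(0 : Fin 2 → k)} := by
  ext p
  rw [mem_vanishingIdeal_singleton_iff, ← pow_one (idealOfVars (Fin 2) k), mem_pow_idealOfVars_iff']
  constructor
  · intro h
    rw [show (aeval (0 : Fin 2 → k)) p = constantCoeff p by simp [aeval_zero]]
    exact h 0 (by simp)
  · intro h e he
    obtain rfl : e = 0 := by
      rw [← Finsupp.degree_eq_zero_iff]
      omega
    rw [show (aeval (0 : Fin 2 → k)) p = constantCoeff p by simp [aeval_zero]] at h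
    exact h

/-- Over an algebraically closed field every maximal ideal is a translate of the ideal of the variables. -/
theorem exists_shift [IsAlgClosed k] {m : Ideal (MvPolynomial (Fin 2) k)} (hm : m.IsMaximal) :
    ∃ φ : MvPolynomial (Fin 2) k ≃ₐ[k] MvPolynomial (Fin 2) k, m = (idealOfVars (Fin 2) k).map φ := by
  obtain ⟨α, rfl⟩ := isMaximal_iff_eq_vanishingIdeal_singleton.1 hm
  refine ⟨shift k α, ?_⟩
  rw [idealOfVars_eq_vanishingIdeal]
  ext p
  rw [show (vanishingIdeal k {(0 : Fin 2 → k)}).map (shift k α) =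
    (vanishingIdeal k {(0 : Fin 2 → k)}).comap (shift k α).symm from Ideal.map_comap_of_equiv
      (shift k α).toRingEquiv, Ideal.mem_comap, mem_vanishingIdeal_singleton_iff, mem_vanishingIdeal_singleton_iff]
  have : (aeval (0 : Fin 2 → k)).comp ((shift k α).symm : MvPolynomial (Fin 2) k →ₐ[k] _) = aeval α :=
    algHom_ext fun i => by simp [shift]
  exact ⟨fun h => (DFunLike.congr_fun this p).trans h, fun h => (DFunLike.congr_fun this p).symm.trans h⟩

end Groth.Agent.BlowUpPlane
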