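import Groth.Agent.BlowUpPlane.Algebra
import Groth.Agent.Coherent.ProjSpaceFlat
import Groth.Agent.CurveRR24.Sky
import Groth.Agent.BlowUpCoh.Regular

/-!
# A chart of the projective plane at a closed point
-/

set_option autoImplicit false
set_option backward.isDefEq.respectTransparency.types false

universe u

open CategoryTheory CategoryTheory.Limits AlgebraicGeometry TopologicalSpace Opposite
open Groth.Agent.Coherent Groth.Agent.PicLib Groth.Agent.CAlgH.KoszulRegular

namespace Groth.Agent.BlowUpPlane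

variable (k : Type u) [Field k]

/-- Scalars in an affine chart over a field. -/
theorem chart_scalar {X : Scheme.{u}} (f : X ⟶ Spec (CommRingCat.of k)) {R : Type u} [CommRing R]
    (j : Spec (CommRingCat.of R) ⟶ X) [IsOpenImmersion j] (φ : k →+* R)
    (h : j ≫ f = Spec.map (CommRingCat.ofHom φ)) (c : k) :
    (j.appIso ⊤).inv ((Scheme.ΓSpecIso (CommRingCat.of R)).inv (φ c)) =
      X.presheaf.map (homOfLE (le_top : j ''ᵁ ⊤ ≤ ⊤)).op (Coh.toGlobal f c) := by
  apply (ConcreteCategory.bijective_of_isIso (j.appIso ⊤).hom).1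
  refine Eq.trans ?_ (ConcreteCategory.congr_hom (?_ :
    (Scheme.ΓSpecIso (CommRingCat.of k)).inv ≫ (Spec.map (CommRingCat.ofHom φ)).appTop =
      (Scheme.ΓSpecIso (CommRingCat.of k)).inv ≫ f.appTop ≫
        X.presheaf.map (homOfLE (le_top : j ''ᵁ ⊤ ≤ ⊤)).op ≫ (j.appIso ⊤).hom) c)
  · rw [← ConcreteCategory.comp_apply (j.appIso ⊤).inv, Iso.inv_hom_id]
    exact ConcreteCategory.congr_hom (Scheme.ΓSpecIso_inv_naturality (CommRingCat.ofHom φ)) c
  · rw [← h, Scheme.Hom.comp_appTop, Scheme.Hom.appIso_hom']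
    congr 2
    simp [Scheme.Hom.appLE, ← Functor.map_comp]
    exact (Category.comp_id _).symm.trans (congrArg (_ ≫ ·) ((congrArg _ (Subsingleton.elim _ (𝟙 _))).trans
      ((Spec (CommRingCat.of R)).presheaf.map_id _)).symm)

/-- The degree zero part of a standard localisation of the plane is a polynomial ring in two variables. -/
theorem exists_away_equiv (i : Fin (2 + 1)) :
    ∃ a : HomogeneousLocalization.Away (CohB1.polyGrading 2 k) (MvPolynomial.X i : MvPolynomial (Fin (2 + 1)) k) ≃+*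
        MvPolynomial (Fin 2) k,
      ∀ c : k, a (ProjLib.toAway 2 k (MvPolynomial.X i) c) = MvPolynomial.C c := by
  let a := (ProjLib.awayEquivQuotient (ProjLib.X_mem_polyGrading 2 k i)).trans (dehomAlg 2 k i).toRingEquiv
  have ha : ∀ c : k, a (ProjLib.toAway 2 k (MvPolynomial.X i) c) = MvPolynomial.C c := fun c => by
    show dehomAlg 2 k i (ProjLib.evalOne (algebraMap _ _ (ProjLib.toAway 2 k (MvPolynomial.X i) c))) = _
    rw [HomogeneousLocalization.algebraMap_apply, ProjLib.val_toAway]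
    have : ProjLib.evalOne (f := (MvPolynomial.X i : MvPolynomial (Fin (2 + 1)) k))
        (algebraMap _ (Localization.Away (MvPolynomial.X i : MvPolynomial (Fin (2 + 1)) k)) (MvPolynomial.C c)) =
        Ideal.Quotient.mk _ (MvPolynomial.C c) := IsLocalization.Away.lift_eq _ _ _
    rw [this]
    exact (dehomAlg 2 k i).commutes c
  let σ : {t : Fin (2 + 1) // t ≠ i} ≃ Fin 2 := Fintype.equivFinOfCardEq (by
    rw [Fintype.card_subtype_compl, Fintype.card_fin, Fintype.card_subtype_eq])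
  let r := MvPolynomial.renameEquiv k σ
  refine ⟨a.trans r.toRingEquiv, fun c => ?_⟩
  show r (a _) = _
  rw [ha]
  exact r.commutes c

/-- A chart of the plane with its polynomial coordinates. -/
theorem exists_chart (x : ↥(CohB1.ProjSpace 2 k)) :
    ∃ (V : (CohB1.ProjSpace 2 k).Opens), IsAffineOpen V ∧ x ∈ V ∧
      ∃ e : MvPolynomial (Fin 2) k ≃+* Γ(CohB1.ProjSpace 2 k, V),
        ∀ c, e (MvPolynomial.C c) = (CohB1.ProjSpace 2 k).presheaf.map (homOfLE (le_top : V ≤ ⊤)).op
          (Coh.toGlobal (CohB1.ProjSpace.toSpec 2 k) c) := by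
  obtain ⟨i, hi⟩ := Opens.mem_iSup.1 ((ProjLib.iSup_basicOpen_X 2 k).ge (Opens.mem_top x))
  obtain ⟨a, ha⟩ := exists_away_equiv k i
  let R := HomogeneousLocalization.Away (CohB1.polyGrading 2 k) (MvPolynomial.X i : MvPolynomial (Fin (2 + 1)) k)
  let j : Spec (CommRingCat.of R) ⟶ CohB1.ProjSpace 2 k :=
    Proj.awayι (CohB1.polyGrading 2 k) (MvPolynomial.X i) (ProjLib.X_mem_polyGrading 2 k i) one_pos
  haveI : IsOpenImmersion j := inferInstanceAs (IsOpenImmersion (Proj.awayι (CohB1.polyGrading 2 k) _ _ _))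
  have hV : IsAffineOpen (j ''ᵁ ⊤) := (isAffineOpen_top _).image_of_isOpenImmersion j
  have hxV : x ∈ j ''ᵁ ⊤ := by
    rw [Scheme.Hom.image_top_eq_opensRange]
    exact (Proj.opensRange_awayι (CohB1.polyGrading 2 k) (MvPolynomial.X i)
      (ProjLib.X_mem_polyGrading 2 k i) one_pos).ge hi
  let g : R ≃+* Γ(CohB1.ProjSpace 2 k, j ''ᵁ ⊤) :=
    ((Scheme.ΓSpecIso (CommRingCat.of R)).symm ≪≫ (j.appIso ⊤).symm).commRingCatIsoToRingEquiv
  refine ⟨j ''ᵁ ⊤, hV, hxV, a.symm.trans g, fun c => ?_⟩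
  refine Eq.trans ?_ (chart_scalar k (CohB1.ProjSpace.toSpec 2 k) j (ProjLib.toAway 2 k (MvPolynomial.X i))
    (ProjLib.awayι_toSpec 2 k (ProjLib.X_mem_polyGrading 2 k i) one_pos) c)
  exact congrArg g ((congrArg a.symm (ha c).symm).trans (a.symm_apply_apply _))

/-- A closed point has a chart whose coordinates cut out the point. -/
theorem exists_chart_point [IsAlgClosed k] (x : ↥(CohB1.ProjSpace 2 k))
    (hx : IsClosed ({x} : Set ↥(CohB1.ProjSpace 2 k))) :
    ∃ (V : (CohB1.ProjSpace 2 k).affineOpens), x ∈ V.1 ∧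
      ∃ e : MvPolynomial (Fin 2) k ≃+* Γ(CohB1.ProjSpace 2 k, V.1),
        (∀ c, e (MvPolynomial.C c) = (CohB1.ProjSpace 2 k).presheaf.map (homOfLE (le_top : V.1 ≤ ⊤)).op
          (Coh.toGlobal (CohB1.ProjSpace.toSpec 2 k) c)) ∧
        (Scheme.IdealSheafData.vanishingIdeal ⟨{x}, hx⟩).ideal V =
          (MvPolynomial.idealOfVars (Fin 2) k).map e := by
  obtain ⟨V, hV, hxV, e, he⟩ := exists_chart k x
  let q := hV.primeIdealOf ⟨x, hxV⟩
  have hmax : q.asIdeal.IsMaximal := hV.primeIdealOf_isMaximal_of_isClosed ⟨x, hxV⟩ hx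
  have hI : (Scheme.IdealSheafData.vanishingIdeal (⟨{x}, hx⟩ : Closeds _)).ideal ⟨V, hV⟩ = q.asIdeal := by
    rw [Scheme.IdealSheafData.vanishingIdeal_ideal]
    have : hV.fromSpec ⁻¹' ({x} : Set ↥(CohB1.ProjSpace 2 k)) = {q} := Set.ext fun p => by
      constructor
      · intro hp
        exact hV.fromSpec.isOpenEmbedding.injective (hp.trans (hV.fromSpec_primeIdealOf ⟨x, hxV⟩).symm)
      · rintro rfl
        exact hV.fromSpec_primeIdealOf ⟨x, hxV⟩
    show PrimeSpectrum.vanishingIdeal (hV.fromSpec ⁻¹' ({x} : Set _)) = _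
    exact (congrArg PrimeSpectrum.vanishingIdeal this).trans (PrimeSpectrum.vanishingIdeal_singleton q)
  obtain ⟨φ, hφ⟩ := exists_shift k (m := q.asIdeal.comap e.toRingHom)
    (Ideal.comap_isMaximal_of_surjective _ e.surjective)
  refine ⟨⟨V, hV⟩, hxV, φ.toRingEquiv.trans e, fun c => ?_, ?_⟩
  · show e (φ (MvPolynomial.C c)) = _
    rw [show φ (MvPolynomial.C c) = MvPolynomial.C c from φ.commutes c, he]
  · rw [hI]
    refine Eq.trans ?_ (Ideal.map_map φ.toRingEquiv.toRingHom e.toRingHom)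
    have h2 : (MvPolynomial.idealOfVars (Fin 2) k).map φ.toRingEquiv.toRingHom = q.asIdeal.comap e.toRingHom :=
      hφ.symm
    rw [h2]
    exact (Ideal.map_comap_of_surjective e.toRingHom e.surjective _).symm

/-- The vanishing ideal of a closed point of the plane has a Koszul basis of length two. -/
theorem koszulBasis_point [IsAlgClosed k] (x : ↥(CohB1.ProjSpace 2 k))
    (hx : IsClosed ({x} : Set ↥(CohB1.ProjSpace 2 k))) :
    BlowUpCoh.KoszulBasis (Scheme.IdealSheafData.vanishingIdeal ⟨{x}, hx⟩) 1 := by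
  refine BlowUpCoh.koszulBasis_of_local fun y hy => ?_
  obtain ⟨V, hxV, e, -, hI⟩ := exists_chart_point k x hx
  obtain rfl : y = x :=
    (Scheme.IdealSheafData.coe_support_vanishingIdeal (Z := (⟨{x}, hx⟩ : Closeds _))).le hy
  refine ⟨V, 1, fun l => e (MvPolynomial.X l), hxV, le_rfl, ?_, BlowUpCoh.kreg_ringEquiv e _ (kreg_vars k)⟩
  rw [hI, MvPolynomial.idealOfVars, Ideal.map_span, ← Set.range_comp]
  rfl

end Groth.Agent.BlowUpPlane
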