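import Groth.Agent.BlowUpPlane.Chart
import Groth.Agent.CurveRR24.Degree
import Groth.Agent.Coherent.SchemeCoh

/-!
# Euler characteristics of twisted powers of the ideal of a point of the plane
-/

set_option autoImplicit false
set_option backward.isDefEq.respectTransparency.types false
set_option linter.style.haveILetI false

universe u

open CategoryTheory CategoryTheory.Limits AlgebraicGeometry TopologicalSpace Opposite
open Groth.Agent.Coherent Groth.Agent.PicLib Groth.Agent.AmpleLib Groth.Agent.EulerLib Groth.Agent.CurveRR24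

namespace Groth.Agent.BlowUpPlane

variable (k : Type u) [Field k] {X : Scheme.{u}} [X.Over (Spec (CommRingCat.of k))]

/-- The Euler characteristic of the quotient by an ideal whose support lies in an affine open, with
coordinates on that open. -/
theorem euler_quotMod_eq_finrank (Z : X.IdealSheafData) (V : X.affineOpens) (hV : (Z.support : Set X) ⊆ V.1)
    {B : Type u} [CommRing B] [Algebra k B] (e : B ≃+* Γ(X, V.1))
    (he : ∀ c : k, e (algebraMap k B c) = X.presheaf.map (homOfLE (le_top : V.1 ≤ ⊤)).op (baseHom k X c))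
    (J : Ideal B) (hJ : Z.ideal V = J.map e) :
    Curv2.euler k X (ClSub.quotMod Z) = (Module.finrank k (B ⧸ J) : ℤ) := by
  haveI : Coh.IsQCoh (Coh.structureModule Z.subscheme) := isQCoh_structureModule
  have htop : Z.subschemeι ⁻¹ᵁ V.1 = ⊤ := top_le_iff.1 fun z _ => hV (Z.range_subschemeι.le ⟨z, rfl⟩)
  haveI : IsAffine Z.subscheme := by
    have h := V.2.preimage Z.subschemeι
    rw [htop] at h
    haveI : IsAffine ((⊤ : Z.subscheme.Opens) : Scheme.{u}) := h
    exact IsAffine.of_isIso Z.subscheme.topIso.inv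
  have hz : ∀ q, 0 < q → Subsingleton (Coh.HH X (ClSub.quotMod Z) q) := fun q hq =>
    @Equiv.subsingleton _ _ (HHAffinePushEquiv Z.subschemeι (Coh.structureModule Z.subscheme) q).symm.toEquiv
      (subsingleton_HH_of_isAffine (Coh.structureModule Z.subscheme) q hq)
  rw [euler_eq_sum k X _ 0 hz]
  simp only [Finset.range_one, Finset.sum_singleton, pow_zero, one_mul, zero_add, Nat.cast_inj]
  let π : Γ(X, V.1) →+* Γ(Z.subscheme, Z.subschemeι ⁻¹ᵁ V.1) := (Z.subschemeι.app V.1).hom
  have hπ : Function.Surjective π := Z.subschemeι_app_surjective V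
  let ψ : B →+* Γ(Z.subscheme, Z.subschemeι ⁻¹ᵁ V.1) := π.comp e.toRingHom
  have hψ : Function.Surjective ψ := hπ.comp e.surjective
  have hker : RingHom.ker ψ = J := by
    rw [← RingHom.comap_ker, show RingHom.ker π = Z.ideal V from Z.ker_subschemeι_app V, hJ]
    exact Ideal.comap_map_of_bijective e.toRingHom e.bijective
  let ε : B ⧸ J ≃+* Γ(Z.subscheme, Z.subschemeι ⁻¹ᵁ V.1) :=
    (Ideal.quotEquivOfEq hker.symm).trans (RingHom.quotientKerEquivOfSurjective hψ)
  have hε : ∀ b, ε (Ideal.Quotient.mk J b) = ψ b := fun b => rfl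
  have hres := bijective_resM_of_support (ClSub.quotMod Z) (Z.support : Set X) Z.support.isClosed
    (support_quotMod_subset Z) (W := V.1) hV
  let g : GA (baseHom k X) (ClSub.quotMod Z) →ₗ[k] B ⧸ J :=
    { toFun := fun s => ε.symm (resM (ClSub.quotMod Z) (le_top : V.1 ≤ ⊤) s)
      map_add' := fun s t =>
        (congrArg ε.symm (map_add (resM (ClSub.quotMod Z) (le_top : V.1 ≤ ⊤))
          (show Γ(ClSub.quotMod Z, ⊤) from s) (show Γ(ClSub.quotMod Z, ⊤) from t))).trans (map_add ε.symm _ _)
      map_smul' := fun c s => by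
        refine (congrArg ε.symm (resM_smul (ClSub.quotMod Z) (le_top : V.1 ≤ ⊤) (baseHom k X c)
          (show Γ(ClSub.quotMod Z, ⊤) from s))).trans ?_
        refine (map_mul ε.symm (π (X.presheaf.map (homOfLE (le_top : V.1 ≤ ⊤)).op (baseHom k X c))) _).trans ?_
        rw [RingHom.id_apply, Algebra.smul_def]
        congr 1
        apply ε.injective
        rw [RingEquiv.apply_symm_apply, IsScalarTower.algebraMap_apply k B (B ⧸ J)]
        refine Eq.trans ?_ (hε (algebraMap k B c)).symm
        exact congrArg π (he c).symm }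
  have hg : Function.Bijective g := ε.symm.bijective.comp hres
  exact ((hhZero k (ClSub.quotMod Z)).trans (LinearEquiv.ofBijective g hg)).finrank_eq

/-- Twisting the exact sequence of an ideal with finite support. -/
theorem euler_twist_idealMod [IsProper (X ↘ Spec (CommRingCat.of k))] (Z : X.IdealSheafData) {x : X}
    (hZ : (Z.support : Set X) ⊆ {x}) {L : X.Modules} (hL : PicF.IsInvertible L) :
    Curv2.euler k X (CohB1.tensorMod L (ClSub.idealMod Z)) =
      Curv2.euler k X L - Curv2.euler k X (ClSub.quotMod Z) := by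
  haveI := isLocallyNoetherian_of_proper k (X := X)
  have h := euler_additive k X (twistSeq _ L) (twistSeq_shortExact hL (shortExact_ideal Z))
    (isCoh_twist hL (isCoh_idealMod' Z)) (isCoh_twist hL (isCoh_structureModule X))
    (isCoh_twist hL (isCoh_quotMod Z))
  change Curv2.euler k X (CohB1.tensorMod (Coh.structureModule X) L) =
    Curv2.euler k X (CohB1.tensorMod (ClSub.idealMod Z) L) +
      Curv2.euler k X (CohB1.tensorMod (ClSub.quotMod Z) L) at h
  have hdim : topologicalKrullDim (CohB1.support (ClSub.quotMod Z)) < ((1 : ℕ) : WithBot ℕ∞) := by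
    refine lt_of_le_of_lt (dim_mono ((support_quotMod_subset Z).trans hZ)) (lt_of_le_of_lt ?_ zero_lt_one)
    haveI : Subsingleton (IrreducibleCloseds ({x} : Set X)) :=
      ⟨fun a b => SetLike.ext' ((a.isIrreducible'.1.eq_univ (α := ({x} : Set X))).trans
        (b.isIrreducible'.1.eq_univ (α := ({x} : Set X))).symm)⟩
    exact Order.krullDim_nonpos_of_subsingleton
  rw [euler_congr k X (unitTensorIso L), euler_twist_of_small k (isCoh_quotMod Z) hL hdim,
    euler_congr k X (tensorComm (ClSub.idealMod Z) L)] at h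
  linarith

/-- `χ(L ⊗ m ^ b) = χ(L) - b(b+1)/2` at a closed point of the plane. -/
theorem euler_twist_pointPow [IsAlgClosed k] [(CohB1.ProjSpace 2 k).Over (Spec (CommRingCat.of k))]
    [IsProper (CohB1.ProjSpace 2 k ↘ Spec (CommRingCat.of k))]
    (hk : CohB1.ProjSpace 2 k ↘ Spec (CommRingCat.of k) = CohB1.ProjSpace.toSpec 2 k)
    (x : ↥(CohB1.ProjSpace 2 k)) (hx : IsClosed ({x} : Set ↥(CohB1.ProjSpace 2 k)))
    {L : (CohB1.ProjSpace 2 k).Modules} (hL : PicF.IsInvertible L) (b : ℕ) :
    Curv2.euler k (CohB1.ProjSpace 2 k)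
        (CohB1.tensorMod L (ClSub.idealMod ((Scheme.IdealSheafData.vanishingIdeal ⟨{x}, hx⟩) ^ b))) =
      Curv2.euler k (CohB1.ProjSpace 2 k) L - ((b + 1).choose 2 : ℤ) := by
  obtain ⟨V, hxV, e, he, hI⟩ := exists_chart_point k x hx
  let I : (CohB1.ProjSpace 2 k).IdealSheafData := Scheme.IdealSheafData.vanishingIdeal ⟨{x}, hx⟩
  have hI1 : (I.support : Set ↥(CohB1.ProjSpace 2 k)) = {x} := Scheme.IdealSheafData.coe_support_vanishingIdeal ..
  have hsupp : ((I ^ b).support : Set ↥(CohB1.ProjSpace 2 k)) ⊆ {x} := by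
    cases b with
    | zero => intro y hy; simp at hy
    | succ b => rw [Scheme.IdealSheafData.support_pow_succ, hI1]
  rw [euler_twist_idealMod k (I ^ b) hsupp hL,
    euler_quotMod_eq_finrank k (I ^ b) V (hsupp.trans (Set.singleton_subset_iff.2 hxV)) e
      (fun c => by rw [MvPolynomial.algebraMap_eq, he c, baseHom, hk]; rfl)
      ((MvPolynomial.idealOfVars (Fin 2) k) ^ b) ?_, finrank_quot_pow]
  rw [Scheme.IdealSheafData.ideal_pow, Pi.pow_apply, hI, Ideal.map_pow]

end Groth.Agent.BlowUpPlane
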